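import Cfsg.Agent.FusionFactor.Lift
import Cfsg.Agent.FusionFactor.Construct
import Cfsg.Agent.Fusion.NormalSubgroup
import Cfsg.Agent.Fusion.Systems
import Cfsg.Agent.OddOrder.BG4.Basic

/-!
# Tools for the weakly embedded criterion (S5271)

* `stronglyClosed_sup`: the product of two strongly closed subgroups is strongly closed;
* `inner_of_isNormal`: a system with a normal subgroup whose normalizer system is inner is inner;
* `exists_normal_of_card`: normal subgroups of prescribed order between two normal subgroups.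
-/

set_option autoImplicit false

namespace CfsgLib.FusionWeakEmb

open Cfsg Cfsg.FusionSystem CfsgLib.Fusion CfsgLib.FusionFactor
open scoped commutatorElement

variable {Ω : Type*} [Group Ω] {S : Subgroup Ω} {F : FusionSystem S} {p : ℕ}

theorem normal_subgroupOf_of_stronglyClosed {T : Subgroup Ω} (hT : F.StronglyClosed T) :
    (T.subgroupOf S).Normal :=
  ⟨fun _ hx g => conj_mem_of_stronglyClosed hT g.2 hx⟩

theorem stronglyClosed_sup [Finite S] [Fact p.Prime] (hS : IsPGroup p S) (hF : F.IsSaturated p)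
    {A B : Subgroup Ω} (hA : F.StronglyClosed A) (hB : F.StronglyClosed B) :
    F.StronglyClosed (A ⊔ B) := by
  refine ⟨sup_le hA.1 hB.1, fun R hR φ hφ x => ?_⟩
  obtain ⟨ψ, hψ, hl⟩ := hasLift hS hF hA hφ
  obtain ⟨b, hb, a, ha, hab⟩ := (mem_sup_stronglyClosed hB.1 hA).1 (sup_comm A B ▸ hR x.2)
  have hbm : b ∈ R ⊔ A := by
    rw [show b = (x : Ω) * a⁻¹ by rw [← hab, mul_inv_cancel_right]]
    exact mul_mem (Subgroup.mem_sup_left x.2) (inv_mem (Subgroup.mem_sup_right ha))
  have ham : a ∈ R ⊔ A := Subgroup.mem_sup_right ha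
  have h1 : ψ (Subgroup.inclusion le_sup_left x) = ψ ⟨b, hbm⟩ * ψ ⟨a, ham⟩ := by
    rw [← map_mul]
    exact congrArg ψ (Subtype.ext hab.symm)
  have hψb : ψ ⟨b, hbm⟩ ∈ B := apply_mem_of_stronglyClosed hB hψ hb
  have hψa : ψ ⟨a, ham⟩ ∈ A := apply_mem_of_stronglyClosed hA hψ ha
  rw [show φ x = ψ (Subgroup.inclusion le_sup_left x) *
    ((φ x)⁻¹ * ψ (Subgroup.inclusion le_sup_left x))⁻¹ by group, h1]
  refine mul_mem (mul_mem (Subgroup.mem_sup_right hψb) (Subgroup.mem_sup_left hψa))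
    (Subgroup.mem_sup_left (inv_mem (h1 ▸ hl x)))

/-- Normal subgroups of prescribed order between two normal subgroups. -/
theorem exists_normal_of_card [Finite S] [Fact p.Prime] (hS : IsPGroup p S) {A B : Subgroup Ω}
    (hBS : B ≤ S) (hAB : A ≤ B) (hA : (A.subgroupOf S).Normal) (hB : (B.subgroupOf S).Normal)
    {k : ℕ} (h1 : Nat.card A ≤ p ^ k) (h2 : p ^ k ≤ Nat.card B) :
    ∃ H : Subgroup Ω, A ≤ H ∧ H ≤ B ∧ (H.subgroupOf S).Normal ∧ Nat.card H = p ^ k := by
  haveI := hA
  haveI := hB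
  have hAS := hAB.trans hBS
  have hcA : Nat.card (A.subgroupOf S) = Nat.card A :=
    Nat.card_congr (Subgroup.subgroupOfEquivOfLe hAS).toEquiv
  have hcB : Nat.card (B.subgroupOf S) = Nat.card B :=
    Nat.card_congr (Subgroup.subgroupOfEquivOfLe hBS).toEquiv
  obtain ⟨i, hi⟩ := IsPGroup.iff_card.1 (hS.to_subgroup (A.subgroupOf S))
  let q := QuotientGroup.mk' (A.subgroupOf S)
  haveI : ((B.subgroupOf S).map q).Normal := hB.map q (QuotientGroup.mk'_surjective _)
  have hik : i ≤ k := (Nat.pow_le_pow_iff_right (Fact.out : p.Prime).one_lt).1 (hi ▸ hcA ▸ h1)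
  have hmul : ∀ M : Subgroup (S ⧸ A.subgroupOf S),
      Nat.card (M.comap q) = Nat.card M * Nat.card (A.subgroupOf S) := by
    intro M
    have e1 := (M.comap q).card_mul_index
    rw [Subgroup.index_comap_of_surjective M (QuotientGroup.mk'_surjective _),
      Subgroup.card_eq_card_quotient_mul_card_subgroup (A.subgroupOf S), ← M.card_mul_index] at e1
    exact Nat.eq_of_mul_eq_mul_right (Nat.pos_of_ne_zero M.index_ne_zero_of_finite)
      (by linarith)
  have hle : p ^ (k - i) ≤ Nat.card ((B.subgroupOf S).map q) := by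
    have e := hmul ((B.subgroupOf S).map q)
    rw [Subgroup.comap_map_eq_self (by
      rw [QuotientGroup.ker_mk']; exact Subgroup.comap_mono hAB), hcB, hi] at e
    refine Nat.le_of_mul_le_mul_right ?_ (pow_pos (Fact.out : p.Prime).pos i)
    rw [← pow_add, Nat.sub_add_cancel hik, ← e]
    exact h2
  obtain ⟨M, hMn, hMle, hMc⟩ :=
    CfsgLib.OddOrder.BG4.exists_normal_card_le (hS.to_quotient _) _ (k - i) hle
  refine ⟨(M.comap q).map S.subtype, ?_, ?_, ?_, ?_⟩
  · intro x hx
    refine ⟨⟨x, hAS hx⟩, ?_, rfl⟩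
    show q ⟨x, hAS hx⟩ ∈ M
    rw [show q ⟨x, hAS hx⟩ = 1 from (QuotientGroup.eq_one_iff _).2 hx]
    exact M.one_mem
  · rintro _ ⟨x, hx, rfl⟩
    obtain ⟨y, hy, hyx⟩ := hMle hx
    have h : ((y⁻¹ * x : S) : Ω) ∈ A := (QuotientGroup.eq.1 hyx : y⁻¹ * x ∈ A.subgroupOf S)
    have := B.mul_mem (hy : (y : Ω) ∈ B) (hAB h)
    simpa using this
  · haveI := hMn.comap q
    rw [Subgroup.subgroupOf, Subgroup.comap_map_eq_self_of_injective S.subtype_injective]
    infer_instance
  · rw [Subgroup.card_map_of_injective S.subtype_injective, hmul, hMc, hi, ← pow_add,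
      Nat.sub_add_cancel hik]

theorem normalizerIn_eq_of_normal {H : Subgroup Ω} (hH : H ≤ S) (hn : (H.subgroupOf S).Normal) :
    normalizerIn S H = S := by
  refine le_antisymm (normalizerIn_le S H) fun g hg => ⟨hg, Subgroup.mem_normalizer_iff.2 fun y => ?_⟩
  refine ⟨fun hy => hn.conj_mem ⟨y, hH hy⟩ hy ⟨g, hg⟩, fun hy => ?_⟩
  have := hn.conj_mem ⟨_, hH hy⟩ hy ⟨g⁻¹, S.inv_mem hg⟩
  simpa [Subgroup.mem_subgroupOf, mul_assoc] using this

theorem isFullyNormalized_of_normal [Finite S] {H : Subgroup Ω} (hH : H ≤ S)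
    (hn : (H.subgroupOf S).Normal) : F.IsFullyNormalized H :=
  ⟨hH, fun R _ => by
    rw [normalizerIn_eq_of_normal hH hn]
    exact Nat.card_le_card_of_injective _ (Subgroup.inclusion_injective (normalizerIn_le S R))⟩

/-- A system with a normal subgroup of inner normalizer system is inner. -/
theorem inner_of_isNormal {X : Subgroup Ω} (hX : F.IsNormal X)
    (h : ∀ N : FusionSystem (normalizerIn S X), F.IsNormalizerSystem X N →
      ∀ P : Subgroup Ω, N.Hom P = (innerFusionSystem (normalizerIn S X)).Hom P) (P : Subgroup Ω) :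
    F.Hom P = (innerFusionSystem S).Hom P := by
  refine Set.ext fun φ => ⟨fun hφ => ?_, ?_⟩
  · obtain ⟨N, hN⟩ := exists_isNormalizerSystem F hX.1
    have hn : normalizerIn S X = S :=
      le_antisymm (normalizerIn_le S X) fun g hg => ⟨hg, normal_le_normalizer hX hg⟩
    have hmem : φ ∈ N.Hom P := by
      rw [hN P]
      exact ⟨hφ, (le_left hφ).trans hn.ge, fun x => hn.ge (apply_mem hφ x), hX.2 P φ hφ⟩
    rw [h N hN P] at hmem
    obtain ⟨-, g, hg, hgx⟩ := hmem
    exact ⟨le_left hφ, g, hn.le hg, hgx⟩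
  · rintro ⟨hP, g, hg, hgx⟩
    exact mem_congr (F.conj_mem hP hg) hgx

end CfsgLib.FusionWeakEmb
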