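import Cfsg.Agent.FusionWeakEmb.Basic
import Cfsg.Agent.FusionFactor.ImageSaturated
import Cfsg.Agent.FusionSolvable.Chain
import Cfsg.Agent.FusionQd.Factor
import Cfsg.Agent.FusionTate.Hyperfocal
import Cfsg.Agent.FrattiniTheory.Basic
import Cfsg.Agent.Solvable.Frattini

/-!
# A system in which all subgroups of one order are weakly embedded with inner normalizers is inner

Induction on `S`.  A minimal strongly closed `W ≠ 1` has order at most `d = |D|`.  If it is smaller,
induction gives `hyp(F) ≤ W`, Tate's theorem a maximal subgroup not containing `W`, and a second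
minimal strongly closed subgroup meeting `W` trivially, of order `d` and normal in `F`.  If all
nontrivial strongly closed subgroups have order at least `d`, two minimal ones centralise each
other inside a direct product, so one of them is abelian, hence normal of order `d`.
-/

set_option autoImplicit false

namespace CfsgLib.FusionWeakEmb

open Cfsg Cfsg.FusionSystem CfsgLib.Fusion CfsgLib.FusionFactor
open scoped commutatorElement

variable {Ω : Type*} [Group Ω] {S : Subgroup Ω} {F : FusionSystem S} {p : ℕ}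

/-- All subgroups of order `d` are weakly embedded. -/
def Embedded (F : FusionSystem S) (d : ℕ) : Prop :=
  ∀ Q : Subgroup Ω, Q ≤ S → Nat.card Q = d →
    ∃ P : Subgroup Ω, F.StronglyClosed P ∧ F.StronglyClosed (Q ⊔ P) ∧ F.StronglyClosed (Q ⊓ P)

/-- The fully normalized subgroups of order `d` have inner normalizer systems. -/
def InnerAt (F : FusionSystem S) (d : ℕ) : Prop :=
  ∀ H : Subgroup Ω, F.IsFullyNormalized H → Nat.card H = d →
    ∀ N : FusionSystem (normalizerIn S H), F.IsNormalizerSystem H N →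
      ∀ P : Subgroup Ω, N.Hom P = (innerFusionSystem (normalizerIn S H)).Hom P

theorem eq_or_eq_bot {G : Type*} [Group G] [Fact p.Prime] {H K : Subgroup G}
    (hK : Nat.card K = p) (h : H ≤ K) : H = ⊥ ∨ H = K := by
  haveI : Finite K := Nat.finite_of_card_ne_zero (hK ▸ (Fact.out : p.Prime).pos.ne')
  rcases (Nat.dvd_prime Fact.out).1 (hK ▸ Subgroup.card_dvd_of_le h) with h1 | h1
  · exact Or.inl (Subgroup.card_eq_one.1 h1)
  · exact Or.inr (Subgroup.eq_of_le_of_card_ge h (by rw [h1, hK]))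

/-- Inside a finite group a nontrivial strongly closed subgroup contains a minimal one. -/
theorem exists_minimal [Finite S] {T : Subgroup Ω} (hT : F.StronglyClosed T) (hT1 : T ≠ ⊥) :
    ∃ W : Subgroup Ω, F.StronglyClosed W ∧ W ≠ ⊥ ∧ W ≤ T ∧
      ∀ V : Subgroup Ω, F.StronglyClosed V → V ≤ W → V = ⊥ ∨ V = W := by
  induction hn : Nat.card T using Nat.strong_induction_on generalizing T with
  | _ n ih =>
  by_cases h : ∀ V : Subgroup Ω, F.StronglyClosed V → V ≤ T → V = ⊥ ∨ V = T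
  · exact ⟨T, hT, hT1, le_rfl, h⟩
  push Not at h
  obtain ⟨V, hV, hle, hV1, hVT⟩ := h
  obtain ⟨W, h1, h2, h3, h4⟩ :=
    ih _ (hn ▸ card_lt_of_lt (lt_of_le_of_ne hle hVT) hT.1) hV hV1 rfl
  exact ⟨W, h1, h2, h3.trans hle, h4⟩

theorem normal_inf {A B : Subgroup Ω} (hA : (A.subgroupOf S).Normal)
    (hB : (B.subgroupOf S).Normal) : ((A ⊓ B).subgroupOf S).Normal := by
  haveI := hA
  haveI := hB
  rw [show (A ⊓ B).subgroupOf S = A.subgroupOf S ⊓ B.subgroupOf S from rfl]
  infer_instance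

/-- A nontrivial normal subgroup contains a central element of order `p`. -/
theorem exists_central_mem [Finite S] [Fact p.Prime] (hS : IsPGroup p S) {W : Subgroup Ω}
    (hW : W ≤ S) (hn : (W.subgroupOf S).Normal) (hW1 : W ≠ ⊥) :
    ∃ z ∈ W, z ≠ 1 ∧ orderOf z = p ∧ ∀ s ∈ S, s * z = z * s := by
  haveI := hn
  have hne : W.subgroupOf S ≠ ⊥ := by
    rw [Ne, Subgroup.subgroupOf_eq_bot]
    exact fun h => hW1 (disjoint_self.1 (h.mono_right hW))
  obtain ⟨z, hz, hzc, hzo⟩ :=
    CfsgLib.OddOrder.BG4.exists_central_orderOf_prime hS (N := W.subgroupOf S) hne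
  have ho : orderOf (z : Ω) = p := (Subgroup.orderOf_coe z).trans hzo
  refine ⟨z, hz, fun h => ?_, ho, fun s hs =>
    congrArg Subtype.val (Subgroup.mem_center_iff.1 hzc ⟨s, hs⟩)⟩
  rw [h, orderOf_one] at ho
  exact (Fact.out : p.Prime).one_lt.ne ho

/-- The least order of a nontrivial strongly closed subgroup is at most `d`. -/
theorem card_le_of_minimal [Finite S] [Fact p.Prime] (hS : IsPGroup p S) {d k : ℕ}
    (hdk : d = p ^ k) (hd1 : 1 < d) (he : Embedded F d) {W : Subgroup Ω}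
    (hW : F.StronglyClosed W)
    (hmin : ∀ V : Subgroup Ω, F.StronglyClosed V → V ≤ W → V = ⊥ ∨ V = W) :
    Nat.card W ≤ d := by
  by_contra hlt
  push Not at hlt
  haveI := finite_of_le hW.1
  obtain ⟨H, -, hHW, hHn, hHc⟩ := exists_normal_of_card (p := p) hS hW.1 bot_le
    (by rw [Subgroup.bot_subgroupOf]; infer_instance) (normal_subgroupOf_of_stronglyClosed hW)
    (k := k) (by rw [Subgroup.card_bot]; exact hdk ▸ hd1.le) (hdk ▸ hlt.le)
  have hHne : H ≠ W := fun h => by rw [h, ← hdk] at hHc; omega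
  have hH1 : H ≠ ⊥ := fun h => by rw [h, Subgroup.card_bot, ← hdk] at hHc; omega
  obtain ⟨P, hP, hHP, hT⟩ := he H (hHW.trans hW.1) (hdk ▸ hHc)
  rcases hmin _ (stronglyClosed_inf hP hW) inf_le_right with h | h
  · refine (hmin _ (stronglyClosed_inf hHP hW) inf_le_right).elim
      (fun e => hH1 (le_bot_iff.1 (e ▸ le_inf le_sup_left hHW))) fun e => ?_
    refine hHne (le_antisymm hHW fun w hw => ?_)
    obtain ⟨y, hy, x, hx, hxy⟩ :=
      (mem_sup_stronglyClosed (hHW.trans hW.1) hP).1 (inf_eq_right.1 e hw)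
    have h2 : x ∈ P ⊓ W := ⟨hx, by
      rw [show x = y⁻¹ * w by rw [← hxy, inv_mul_cancel_left]]
      exact mul_mem (Subgroup.inv_mem _ (hHW hy)) hw⟩
    rw [h, Subgroup.mem_bot] at h2
    rw [← hxy, h2, mul_one]
    exact hy
  · have hle : H ≤ P := hHW.trans (h.ge.trans inf_le_left)
    rw [inf_eq_left.2 hle] at hT
    exact (hmin H hT hHW).elim hH1 hHne

/-- An abelian strongly closed subgroup of order `d` makes the system inner. -/
theorem inner_of_abelian [Finite S] [Fact p.Prime] (hS : IsPGroup p S) (hF : F.IsSaturated p)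
    {d : ℕ} (hi : InnerAt F d) {X : Subgroup Ω} (hX : F.StronglyClosed X)
    (hab : ∀ a ∈ X, ∀ b ∈ X, a * b = b * a) (hc : Nat.card X = d) (P : Subgroup Ω) :
    F.Hom P = (innerFusionSystem S).Hom P :=
  inner_of_isNormal (isNormal_of_abelian hS hF hX ⟨⟨fun a b => Subtype.ext (hab a a.2 b b.2)⟩⟩)
    (hi X (isFullyNormalized_of_normal hX.1 (normal_subgroupOf_of_stronglyClosed hX)) hc) P

theorem commute_of_disjoint {A B : Subgroup Ω} (hA : F.StronglyClosed A) (hB : F.StronglyClosed B)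
    (h : A ⊓ B = ⊥) {a b : Ω} (ha : a ∈ A) (hb : b ∈ B) : a * b = b * a := by
  have h1 : ⁅a, b⁆ ∈ A ⊓ B := by
    rw [commutatorElement_def]
    refine ⟨?_, mul_mem (conj_mem_of_stronglyClosed hB (hA.1 ha) hb) (Subgroup.inv_mem _ hb)⟩
    rw [show a * b * a⁻¹ * b⁻¹ = a * (b * a⁻¹ * b⁻¹) by group]
    exact mul_mem ha (conj_mem_of_stronglyClosed hA (hB.1 hb) (Subgroup.inv_mem _ ha))
  rw [h, Subgroup.mem_bot] at h1
  exact commutatorElement_eq_one_iff_mul_comm.1 h1

theorem sup_eq_of_disjoint_card [Finite S] {H P W : Subgroup Ω} (hH : H ≤ S)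
    (hP : F.StronglyClosed P) (hW : F.StronglyClosed W) (hHP : H ⊓ P = ⊥) (hWP : W ⊓ P = ⊥)
    (hc : Nat.card H = Nat.card W) (hle : W ≤ H ⊔ P) : W ⊔ P = H ⊔ P := by
  have hprod : ∀ X : Subgroup Ω, X ≤ S → X ⊓ P = ⊥ →
      Nat.card ↥(X ⊔ P) = Nat.card X * Nat.card P := by
    intro X hX hXP
    rw [← Nat.card_prod]
    refine (Nat.card_congr (Equiv.ofBijective (fun a : X × P =>
      (⟨a.1 * a.2, mul_mem (Subgroup.mem_sup_left a.1.2) (Subgroup.mem_sup_right a.2.2)⟩ :
        ↥(X ⊔ P))) ⟨?_, ?_⟩)).symm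
    · exact fun a b h => Subgroup.mul_injective_of_disjoint (disjoint_iff.2 hXP)
        (congrArg Subtype.val h :)
    · rintro ⟨z, hz⟩
      obtain ⟨x, hx, t, ht, rfl⟩ := (mem_sup_stronglyClosed hX hP).1 hz
      exact ⟨(⟨x, hx⟩, ⟨t, ht⟩), rfl⟩
  haveI := finite_of_le (sup_le hH hP.1)
  exact Subgroup.eq_of_le_of_card_ge (sup_le hle le_sup_right)
    (by rw [hprod H hH hHP, hprod W hW.1 hWP, hc])

/-- Case: all nontrivial strongly closed subgroups have order at least `d`. -/
theorem inner_of_large [Finite S] [Fact p.Prime] (hS : IsPGroup p S) (hF : F.IsSaturated p)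
    {d k : ℕ} (hdk : d = p ^ k) (hd1 : 1 < d) (hdS : d < Nat.card S)
    (he : Embedded F d) (hi : InnerAt F d)
    (hlarge : ∀ V : Subgroup Ω, F.StronglyClosed V → V ≠ ⊥ → d ≤ Nat.card V) (P₀ : Subgroup Ω) :
    F.Hom P₀ = (innerFusionSystem S).Hom P₀ := by
  have hp := (Fact.out : p.Prime)
  have hS1 : S ≠ ⊥ := fun h => by rw [h, Subgroup.card_bot] at hdS; omega
  have hSc : F.StronglyClosed S := ⟨le_rfl, fun R _ φ hφ x => apply_mem hφ x⟩
  obtain ⟨W, hW, hW1, -, hmin⟩ := exists_minimal hSc hS1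
  have hWd : Nat.card W = d :=
    le_antisymm (card_le_of_minimal hS hdk hd1 he hW hmin) (hlarge W hW hW1)
  by_cases hab : ∀ a ∈ W, ∀ b ∈ W, a * b = b * a
  · exact inner_of_abelian hS hF hi hW hab hWd P₀
  haveI hWn := normal_subgroupOf_of_stronglyClosed hW
  haveI := finite_of_le hW.1
  obtain ⟨z, hzW, hz1, hzo, hzc⟩ := exists_central_mem hS hW.1 hWn hW1
  have hk : 1 < k := by
    by_contra hk
    apply hab
    have hc : Nat.card W = p := by
      rcases Nat.le_one_iff_eq_zero_or_eq_one.1 (not_lt.1 hk) with h | h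
      · rw [h, pow_zero] at hdk; omega
      · rw [hWd, hdk, h, pow_one]
    haveI := isCyclic_of_prime_card hc
    intro a ha b hb
    exact congrArg Subtype.val (mul_comm' (⟨a, ha⟩ : W) ⟨b, hb⟩)
  -- a subgroup of order `d` through `z` other than `W`
  have hzS : ∀ s ∈ S, z * s = s * z := fun s hs => (hzc s hs).symm
  obtain ⟨Q, hQS, hzQ, hQc, hQW⟩ : ∃ Q : Subgroup Ω, Q ≤ S ∧ z ∈ Q ∧ Nat.card Q = d ∧ Q ≠ W := by
    by_contra hno
    push Not at hno
    obtain ⟨s, hs, hsW⟩ : ∃ s ∈ S, s ∉ W := SetLike.not_le_iff_exists.1 fun h => by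
      rw [le_antisymm hW.1 h] at hWd; omega
    let C : Subgroup Ω := Subgroup.closure {s, z}
    have hCS : C ≤ S := (Subgroup.closure_le _).2 (by
      rintro x (rfl | rfl)
      · exact hs
      · exact hW.1 hzW)
    have hCab : ∀ a ∈ C, ∀ b ∈ C, a * b = b * a := by
      haveI : IsMulCommutative C := Subgroup.isMulCommutative_closure (by
        rintro x (rfl | rfl) y (rfl | rfl)
        · rfl
        · exact (hzS _ hs).symm
        · exact hzS _ hs
        · rfl)
      exact fun a ha b hb => congrArg Subtype.val (mul_comm' (⟨a, ha⟩ : C) ⟨b, hb⟩)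
    haveI := finite_of_le hCS
    obtain ⟨i, hi'⟩ := IsPGroup.iff_card.1 (hS.to_le hCS)
    have hzC : z ∈ C := Subgroup.subset_closure (Or.inr rfl)
    by_cases hik : k ≤ i
    · -- `W` lies in the abelian group `C`
      have hzle : Subgroup.zpowers z ≤ C := Subgroup.zpowers_le.2 hzC
      obtain ⟨K, hK, hKz⟩ := Sylow.exists_subgroup_card_pow_prime_le (G := C) p (n := 1) (m := k)
        (hi' ▸ pow_dvd_pow p hik) ((Subgroup.zpowers z).subgroupOf C)
        (by rw [Nat.card_congr (Subgroup.subgroupOfEquivOfLe hzle).toEquiv, Nat.card_zpowers, hzo,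
          pow_one]) hk.le
      have h := hno (K.map C.subtype) ((Subgroup.map_subtype_le K).trans hCS)
        ⟨⟨z, hzC⟩, hKz (Subgroup.mem_zpowers z), rfl⟩
        (by rw [Subgroup.card_map_of_injective C.subtype_injective, hK, hdk])
      refine hab fun a ha b hb => hCab a ?_ b ?_
      · exact Subgroup.map_subtype_le K (h.symm ▸ ha)
      · exact Subgroup.map_subtype_le K (h.symm ▸ hb)
    · push Not at hik
      obtain ⟨j, hj⟩ := IsPGroup.iff_card.1 hS
      obtain ⟨K, hK, hKC⟩ := Sylow.exists_subgroup_card_pow_prime_le (G := S) p (n := i) (m := k)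
        (hj ▸ pow_dvd_pow p ((Nat.pow_le_pow_iff_right hp.one_lt).1 (hj ▸ hdk ▸ hdS.le)))
        (C.subgroupOf S)
        (by rw [Nat.card_congr (Subgroup.subgroupOfEquivOfLe hCS).toEquiv, hi']) hik.le
      have h := hno (K.map S.subtype) (Subgroup.map_subtype_le K)
        ⟨⟨z, hW.1 hzW⟩, hKC hzC, rfl⟩
        (by rw [Subgroup.card_map_of_injective S.subtype_injective, hK, hdk])
      exact hsW (h.le ⟨⟨s, hs⟩, hKC (Subgroup.subset_closure (Or.inl rfl)), rfl⟩)
  haveI := finite_of_le hQS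
  have small : ∀ {X T : Subgroup Ω}, X ≤ S → Nat.card X = d → F.StronglyClosed T → T ≤ X →
      T ≠ X → T = ⊥ := by
    intro X T hX hXc hT hTX hne
    by_contra hT1
    haveI := finite_of_le hX
    exact hne (Subgroup.eq_of_le_of_card_ge hTX (hXc ▸ hlarge T hT hT1))
  obtain ⟨P, hP, hQP, hT⟩ := he Q hQS hQc
  have hQnc : ¬ F.StronglyClosed Q := by
    intro hQ
    rcases hmin _ (stronglyClosed_inf hQ hW) inf_le_right with h | h
    · exact hz1 (Subgroup.mem_bot.1 (h ▸ (⟨hzQ, hzW⟩ : z ∈ Q ⊓ W)))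
    · exact hQW (Subgroup.eq_of_le_of_card_ge (inf_eq_right.1 h) (by rw [hQc, hWd])).symm
  have hTQ : Q ⊓ P = ⊥ := small hQS hQc hT inf_le_left fun h => hQnc (h ▸ hT)
  have hP1 : P ≠ ⊥ := fun h => hQnc (by rw [h, sup_bot_eq] at hQP; exact hQP)
  obtain ⟨W₂, hW₂, hW₂1, hW₂P, hmin₂⟩ := exists_minimal hP hP1
  have hW₂d : Nat.card W₂ = d :=
    le_antisymm (card_le_of_minimal hS hdk hd1 he hW₂ hmin₂) (hlarge _ hW₂ hW₂1)
  have hWW₂ : W ⊓ W₂ = ⊥ := by
    rcases hmin _ (stronglyClosed_inf hW hW₂) inf_le_left with h | h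
    · exact h
    · exact absurd (Subgroup.mem_bot.1 (hTQ ▸ (⟨hzQ, hW₂P ((inf_eq_left.1 h) hzW)⟩ : z ∈ Q ⊓ P))) hz1
  obtain ⟨z₂, hz₂W, hz₂1, hz₂o, hz₂c⟩ :=
    exists_central_mem hS hW₂.1 (normal_subgroupOf_of_stronglyClosed hW₂) hW₂1
  obtain ⟨M, -, hMW, hMn, hMc⟩ := exists_normal_of_card (p := p) hS hW.1 bot_le
    (by rw [Subgroup.bot_subgroupOf]; infer_instance) hWn (k := k - 1)
    (by rw [Subgroup.card_bot]; exact Nat.one_le_pow _ _ hp.pos)
    (by rw [hWd, hdk]; exact Nat.pow_le_pow_right hp.pos (Nat.sub_le k 1))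
  obtain ⟨Z, hZ⟩ : ∃ Z, Z = Subgroup.zpowers z₂ := ⟨_, rfl⟩
  have hZW₂ : Z ≤ W₂ := hZ ▸ Subgroup.zpowers_le.2 hz₂W
  have hMZ : M ⊓ Z = ⊥ := le_bot_iff.1 ((inf_le_inf hMW hZW₂).trans hWW₂.le)
  let H := M ⊔ Z
  have hHS : H ≤ S := sup_le (hMW.trans hW.1) (hZW₂.trans hW₂.1)
  have hmemH : ∀ x ∈ H, ∃ m ∈ M, ∃ t ∈ Z, m * t = x := by
    intro x hx
    have hnorm : M ≤ Subgroup.normalizer (Z : Set Ω) := fun m hm => by
      refine Subgroup.le_centralizer_iff.1 ?_ hm |> (Subgroup.centralizer_le_normalizer _ ·)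
      rw [hZ, Subgroup.zpowers_le]
      exact Subgroup.mem_centralizer_iff.2 fun a ha => hz₂c a (hW.1 (hMW ha))
    rw [← SetLike.mem_coe, Subgroup.coe_mul_of_left_le_normalizer_right M Z hnorm] at hx
    exact hx
  have hHc : Nat.card H = d := by
    have : Nat.card H = Nat.card M * Nat.card Z := by
      rw [← Nat.card_prod]
      refine (Nat.card_congr (Equiv.ofBijective (fun a : M × Z =>
        (⟨a.1 * a.2, mul_mem (Subgroup.mem_sup_left a.1.2) (Subgroup.mem_sup_right a.2.2)⟩ : H))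
        ⟨fun a b h => Subgroup.mul_injective_of_disjoint (disjoint_iff.2 hMZ)
          (congrArg Subtype.val h :), ?_⟩)).symm
      rintro ⟨x, hx⟩
      obtain ⟨m, hm, t, ht, rfl⟩ := hmemH x hx
      exact ⟨(⟨m, hm⟩, ⟨t, ht⟩), rfl⟩
    rw [this, hMc, hZ, Nat.card_zpowers, hz₂o, ← pow_succ, Nat.sub_add_cancel (by omega), hdk]
  have hHW : H ⊓ W = M := by
    refine le_antisymm ?_ (le_inf le_sup_left hMW)
    rintro x ⟨hxH, hxW⟩
    obtain ⟨m, hm, t, ht, hmt⟩ := hmemH x hxH
    have : t ∈ W ⊓ W₂ := ⟨by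
      rw [show t = m⁻¹ * x by rw [← hmt, inv_mul_cancel_left]]
      exact mul_mem (Subgroup.inv_mem _ (hMW hm)) hxW, hZW₂ ht⟩
    rw [hWW₂, Subgroup.mem_bot] at this
    rw [← hmt, this, mul_one]
    exact hm
  have hM1 : M ≠ ⊥ := fun h => by
    rw [h, Subgroup.card_bot] at hMc
    exact (Nat.one_lt_pow (by omega) hp.one_lt).ne hMc
  have hMW' : M ≠ W := fun h => by
    rw [h, hWd, hdk] at hMc
    have := Nat.pow_right_injective hp.two_le hMc
    omega
  obtain ⟨P', hP', hHP', hT'⟩ := he H hHS hHc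
  have hHnc : ¬ F.StronglyClosed H := fun h =>
    (hmin M (hHW ▸ stronglyClosed_inf h hW) hMW).elim hM1 hMW'
  have hTH : H ⊓ P' = ⊥ := small hHS hHc hT' inf_le_left fun h => hHnc (h ▸ hT')
  have hWP' : W ⊓ P' = ⊥ := by
    rcases hmin _ (stronglyClosed_inf hW hP') inf_le_left with h | h
    · exact h
    · exact absurd (le_bot_iff.1 (hTH ▸ le_inf le_sup_left (hMW.trans (inf_eq_left.1 h)))) hM1
  have hW₂P' : W₂ ⊓ P' = ⊥ := by
    rcases hmin₂ _ (stronglyClosed_inf hW₂ hP') inf_le_left with h | h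
    · exact h
    · exact absurd (Subgroup.mem_bot.1 (hTH ▸ (⟨Subgroup.mem_sup_right (hZ ▸ Subgroup.mem_zpowers z₂),
        inf_eq_left.1 h hz₂W⟩ : z₂ ∈ H ⊓ P'))) hz₂1
  have hWle : W ≤ H ⊔ P' :=
    inf_eq_right.1 ((hmin _ (stronglyClosed_inf hHP' hW) inf_le_right).resolve_left fun h =>
      hM1 (le_bot_iff.1 (h ▸ le_inf (le_sup_left.trans le_sup_left) hMW)))
  have heq := sup_eq_of_disjoint_card hHS hP' hW hTH hWP' (hHc.trans hWd.symm) hWle
  have hW₂le : W₂ ≤ W ⊔ P' := by
    rw [heq]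
    refine inf_eq_right.1 ((hmin₂ _ (stronglyClosed_inf hHP' hW₂) inf_le_right).resolve_left
      fun h => hz₂1 (Subgroup.mem_bot.1 (h ▸ (⟨Subgroup.mem_sup_left
        (Subgroup.mem_sup_right (hZ ▸ Subgroup.mem_zpowers z₂)), hz₂W⟩ : z₂ ∈ (H ⊔ P') ⊓ W₂))))
  refine inner_of_abelian hS hF hi hW₂ (fun a ha b hb => ?_) hW₂d P₀
  obtain ⟨w, hw, y, hy, rfl⟩ := (mem_sup_stronglyClosed hW.1 hP').1 (hW₂le ha)
  obtain ⟨w', hw', y', hy', rfl⟩ := (mem_sup_stronglyClosed hW.1 hP').1 (hW₂le hb)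
  have hcent : ∀ {v u : Ω}, v ∈ W → u ∈ P' → v * u ∈ W₂ → ∀ v' ∈ W, v * v' = v' * v := by
    intro v u hv hu hvu v' hv'
    have h1 := commute_of_disjoint hW hW₂ hWW₂ hv' hvu
    have h2 := commute_of_disjoint hW hP' hWP' hv' hu
    rw [mul_assoc, ← h2, ← mul_assoc, ← mul_assoc] at h1
    exact (mul_right_cancel h1).symm
  have c1 : Commute w w' := hcent hw hy ha w' hw'
  have c2 : Commute w y' := commute_of_disjoint hW hP' hWP' hw hy'
  have c3 : Commute y w' := (commute_of_disjoint hW hP' hWP' hw' hy).symm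
  have c4 : Commute y y' := by
    have hd : ⁅y, y'⁆ ∈ W₂ ⊓ P' := by
      refine ⟨?_, by
        rw [commutatorElement_def]
        exact mul_mem (mul_mem (mul_mem hy hy') (Subgroup.inv_mem _ hy)) (Subgroup.inv_mem _ hy')⟩
      have hw'c : ∀ v ∈ W, w' * v = v * w' := hcent hw' hy' hb
      have e : ⁅w * y, w' * y'⁆ = ⁅y, y'⁆ := by
        have c5 : Commute w (y * (w' * y') * y⁻¹) :=
          (Commute.mul_right (commute_of_disjoint hW hP' hWP' hw hy) (c1.mul_right c2)).mul_right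
            ((Commute.inv_right (commute_of_disjoint hW hP' hWP' hw hy)))
        calc ⁅w * y, w' * y'⁆ = w * (y * (w' * y') * y⁻¹) * w⁻¹ * (w' * y')⁻¹ := by
              rw [commutatorElement_def]; group
          _ = y * (w' * y') * y⁻¹ * (w' * y')⁻¹ := by rw [c5.eq, mul_inv_cancel_right]
          _ = (y * w') * y' * y⁻¹ * y'⁻¹ * w'⁻¹ := by group
          _ = w' * (y * y' * y⁻¹ * y'⁻¹) * w'⁻¹ := by rw [c3.eq]; group
          _ = ⁅y, y'⁆ := by
            have hc : Commute w' (y * y' * y⁻¹ * y'⁻¹) :=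
              commute_of_disjoint hW hP' hWP' hw'
                (mul_mem (mul_mem (mul_mem hy hy') (Subgroup.inv_mem _ hy)) (Subgroup.inv_mem _ hy'))
            rw [hc.eq, mul_inv_cancel_right, commutatorElement_def]
      rw [← e, commutatorElement_def]
      exact mul_mem (mul_mem (mul_mem ha hb) (Subgroup.inv_mem _ ha)) (Subgroup.inv_mem _ hb)
    rw [hW₂P', Subgroup.mem_bot] at hd
    exact commutatorElement_eq_one_iff_mul_comm.1 hd
  exact ((c1.mul_right c2).mul_left (c3.mul_right c4)).eq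

theorem mem_preimage_image {Ω' : Type*} [Group Ω'] {θ : S →* Ω'} {W X : Subgroup Ω}
    (hker : ∀ s : S, θ s = 1 ↔ (s : Ω) ∈ W) (hWX : W ≤ X) (s : S) :
    θ s ∈ (X.subgroupOf S).map θ ↔ (s : Ω) ∈ X := by
  refine ⟨?_, fun h => ⟨s, h, rfl⟩⟩
  rintro ⟨t, ht, hts⟩
  have h1 : ((t⁻¹ * s : S) : Ω) ∈ W :=
    (hker _).1 (by rw [map_mul, map_inv, hts, inv_mul_cancel])
  have := X.mul_mem ht (hWX h1)
  simpa using this

theorem image_eq_of_preimage {Ω' : Type*} [Group Ω'] {θ : S →* Ω'} {S' : Subgroup Ω'}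
    (hrange : θ.range = S') {X : Subgroup Ω'} (hX : X ≤ S') :
    ((preimageAlong θ X).subgroupOf S).map θ = X := by
  ext y
  constructor
  · rintro ⟨s, hs, rfl⟩
    obtain ⟨_, h⟩ := mem_preimageAlong.1 hs
    exact h
  · intro hy
    obtain ⟨s, rfl⟩ : y ∈ θ.range := hrange.symm ▸ hX hy
    exact ⟨s, mem_preimageAlong.2 ⟨s.2, hy⟩, rfl⟩

theorem card_preimageAlong [Finite S] {Ω' : Type*} [Group Ω'] {θ : S →* Ω'} {S' : Subgroup Ω'}
    (hrange : θ.range = S') {W : Subgroup Ω} (hW : W ≤ S)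
    (hker : ∀ s : S, θ s = 1 ↔ (s : Ω) ∈ W) {X : Subgroup Ω'} (hX : X ≤ S') :
    Nat.card (preimageAlong θ X) = Nat.card W * Nat.card X := by
  rw [show preimageAlong θ X = (X.comap θ).map S.subtype from rfl,
    Subgroup.card_map_of_injective S.subtype_injective]
  let f : X.comap θ →* X := (θ.comp (X.comap θ).subtype).codRestrict X fun s => s.2
  have hf : Function.Surjective f := fun y => by
    obtain ⟨s, hs⟩ : (y : Ω') ∈ θ.range := hrange.symm ▸ hX y.2
    exact ⟨⟨s, show θ s ∈ X from hs.symm ▸ y.2⟩, Subtype.ext hs⟩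
  rw [← Subgroup.card_mul_index f.ker, Subgroup.index_ker, MonoidHom.range_eq_top.2 hf,
    Subgroup.card_top]
  congr 1
  refine Nat.card_congr ⟨fun s => ⟨((s : X.comap θ) : S), (hker _).1 ?_⟩,
    fun w => ⟨⟨⟨w, hW w.2⟩, ?_⟩, ?_⟩, fun s => rfl, fun w => rfl⟩
  · exact congrArg Subtype.val (MonoidHom.mem_ker.1 s.2)
  · show θ ⟨w, hW w.2⟩ ∈ X
    rw [(hker _).2 w.2]
    exact X.one_mem
  · exact MonoidHom.mem_ker.2 (Subtype.ext ((hker _).2 w.2))

/-- The hypotheses pass to the factor system by a strongly closed subgroup of order less than `d`. -/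
theorem factor_hypotheses [Finite S] [Fact p.Prime] (hS : IsPGroup p S) (hF : F.IsSaturated p)
    {W : Subgroup Ω} (hW : F.StronglyClosed W) {Ω' : Type*} [Group Ω'] {S' : Subgroup Ω'}
    [Finite S'] {θ : S →* Ω'} {E : FusionSystem S'} (hE : F.IsFactorSystem W θ E) {d d' : ℕ}
    (hdd : d = Nat.card W * d') (he : Embedded F d) (hi : InnerAt F d) :
    Embedded E d' ∧ InnerAt E d' := by
  obtain ⟨-, hker, hrange, hHom⟩ := id hE
  have hWle : ∀ X : Subgroup Ω', W ≤ preimageAlong θ X := fun X x hx =>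
    mem_preimageAlong.2 ⟨hW.1 hx, by rw [(hker ⟨x, hW.1 hx⟩).2 hx]; exact X.one_mem⟩
  constructor
  · intro Q' hQ' hQc
    let Q := preimageAlong θ Q'
    obtain ⟨P, hP, hQP, hT⟩ := he Q (preimageAlong_le θ Q')
      (by rw [card_preimageAlong hrange hW.1 hker hQ', hQc, hdd])
    have hPW := stronglyClosed_sup hS hF hP hW
    refine ⟨((P ⊔ W).subgroupOf S).map θ,
      FusionSolvable.stronglyClosed_image hW hE hPW, ?_, ?_⟩
    · have h := FusionSolvable.stronglyClosed_image hW hE hQP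
      convert h using 1
      rw [show Q ⊔ P = Q ⊔ (P ⊔ W) from le_antisymm (sup_le_sup_left le_sup_left Q)
        (sup_le le_sup_left (sup_le le_sup_right ((hWle Q').trans le_sup_left))),
        Subgroup.subgroupOf_sup (preimageAlong_le θ Q') (sup_le hP.1 hW.1), Subgroup.map_sup,
        image_eq_of_preimage hrange hQ']
    · have h := FusionSolvable.stronglyClosed_image hW hE (stronglyClosed_sup hS hF hT hW)
      convert h using 1
      ext y
      constructor
      · rintro ⟨hy, s, hs, rfl⟩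
        refine ⟨s, ?_, rfl⟩
        obtain ⟨a, ha, b, hb, hab⟩ := (mem_sup_stronglyClosed hP.1 hW).1 hs
        show (s : Ω) ∈ Q ⊓ P ⊔ W
        rw [show (s : Ω) = a * b from hab.symm]
        refine mul_mem (Subgroup.mem_sup_left ⟨?_, ha⟩) (Subgroup.mem_sup_right hb)
        rw [show a = (s : Ω) * b⁻¹ from eq_mul_inv_of_mul_eq hab]
        exact mul_mem (mem_preimageAlong.2 ⟨s.2, hy⟩) (Subgroup.inv_mem _ (hWle Q' hb))
      · rintro ⟨s, hs, rfl⟩
        refine ⟨?_, s, (sup_le (inf_le_right.trans le_sup_left) le_sup_right : Q ⊓ P ⊔ W ≤ P ⊔ W) hs,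
          rfl⟩
        obtain ⟨_, h⟩ := mem_preimageAlong.1
          ((sup_le inf_le_left (hWle Q') : Q ⊓ P ⊔ W ≤ Q) hs)
        exact h
  · intro H' hH' hHc N' hN' P'
    have hmor := isSurjectiveMorphism_of_isFactorSystem hS hF hW hE
    obtain ⟨H, hH⟩ : ∃ H, H = preimageAlong θ H' := ⟨_, rfl⟩
    have hHS : H ≤ S := hH ▸ preimageAlong_le θ H'
    have hnorm : ∀ s : S, ∀ R' : Subgroup Ω', R' ≤ S' →
        ((s : Ω) ∈ normalizerIn S (preimageAlong θ R') ↔ θ s ∈ normalizerIn S' R') := by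
      intro s R' hR'
      refine ⟨fun h => ⟨hrange.le ⟨s, rfl⟩,
        (FusionQd.mem_normalizer_preimage_iff hrange hR' s).1 h.2⟩,
        fun h => ⟨s.2, (FusionQd.mem_normalizer_preimage_iff hrange hR' s).2 h.2⟩⟩
    have hcardN : ∀ R' : Subgroup Ω', R' ≤ S' →
        Nat.card (normalizerIn S (preimageAlong θ R')) =
          Nat.card W * Nat.card (normalizerIn S' R') := by
      intro R' hR'
      rw [← card_preimageAlong hrange hW.1 hker (normalizerIn_le S' R')]
      congr 1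
      refine congrArg (fun X : Subgroup Ω => ↥X) (le_antisymm (fun x hx => ?_) fun x hx => ?_)
      · exact mem_preimageAlong.2 ⟨hx.1, (hnorm ⟨x, hx.1⟩ R' hR').1 hx⟩
      · obtain ⟨hxS, h⟩ := mem_preimageAlong.1 hx
        exact (hnorm ⟨x, hxS⟩ R' hR').2 h
    have hfn : F.IsFullyNormalized H := by
      refine ⟨hHS, fun K hK => ?_⟩
      obtain ⟨φ, hφ, hφr⟩ := hK
      obtain ⟨φ', hφ', hPS, hval, hP', hind⟩ := hmor.1.2 _ φ hφ
      have hK : K ≤ S := hφr ▸ range_le hφ
      have hWK : W ≤ K := by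
        intro w hw
        obtain ⟨x, -, hxw⟩ := exists_eq_of_stronglyClosed F hW hφ (hH ▸ hWle H') hw
        exact hφr ▸ ⟨x, hxw⟩
      obtain ⟨K', hK'⟩ : ∃ K', K' = (K.subgroupOf S).map θ := ⟨_, rfl⟩
      have hKpre : K = preimageAlong θ K' := by
        refine le_antisymm (fun x hx => mem_preimageAlong.2 ⟨hK hx, hK' ▸ ⟨⟨x, hK hx⟩, hx, rfl⟩⟩)
          fun x hx => ?_
        obtain ⟨hxS, h⟩ := mem_preimageAlong.1 hx
        exact (mem_preimage_image hker hWK ⟨x, hxS⟩).1 (hK' ▸ h)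
      have hK'S : K' ≤ S' := hK' ▸ hrange ▸ Subgroup.map_le_range _ _
      have hle : H' ≤ imageAlong θ H := by
        rw [hH]
        exact (image_eq_of_preimage hrange hH'.1).ge
      have hconj : E.IsConj H' K' := by
        refine ⟨_, restrict_mem hφ' hle, ?_⟩
        ext y
        constructor
        · rintro ⟨⟨x, hx⟩, rfl⟩
          obtain ⟨t, ht, htx⟩ := hle hx
          rw [hK']
          refine ⟨⟨φ ⟨t, ht⟩, hval _⟩, hφr ▸ ⟨⟨t, ht⟩, rfl⟩, ?_⟩
          rw [← hind ⟨t, ht⟩]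
          exact congrArg φ' (Subtype.ext htx)
        · intro hy
          obtain ⟨t, ht, rfl⟩ := hK' ▸ hy
          obtain ⟨x, hx⟩ := hφr.ge (Subgroup.mem_subgroupOf.1 ht)
          obtain ⟨hxS, hxH⟩ := mem_preimageAlong.1 (hH.le x.2)
          refine ⟨⟨θ ⟨x, hxS⟩, hxH⟩, ?_⟩
          show φ' _ = θ t
          rw [show t = ⟨φ x, hval x⟩ from Subtype.ext hx.symm, ← hind x]
          rfl
      rw [hKpre, hH, hcardN K' hK'S, hcardN H' hH'.1]
      exact Nat.mul_le_mul_left _ (hH'.2 K' hconj)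
    obtain ⟨N, hN⟩ := exists_isNormalizerSystem F hHS
    have hinner := hi H hfn (by rw [hH, card_preimageAlong hrange hW.1 hker hH'.1, hHc, hdd]) N hN
    refine Set.ext fun φ' => ⟨fun hφ' => ?_, ?_⟩
    · rw [hN' P'] at hφ'
      obtain ⟨hφE, hPN, hPval, ψ', hψ', hψext, hψH⟩ := hφ'
      obtain ⟨-, χ, hχ, hχS, hχv, hχP, hχind⟩ := (hHom _ ψ').1 hψ'
      let R := preimageAlong θ P'
      have hRle : R ≤ preimageAlong θ (P' ⊔ H') := fun x hx => by
        obtain ⟨hxS, h⟩ := mem_preimageAlong.1 hx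
        exact mem_preimageAlong.2 ⟨hxS, Subgroup.mem_sup_left h⟩
      have hHle : H ≤ preimageAlong θ (P' ⊔ H') := fun x hx => by
        obtain ⟨hxS, h⟩ := mem_preimageAlong.1 (hH ▸ hx)
        exact mem_preimageAlong.2 ⟨hxS, Subgroup.mem_sup_right h⟩
      have hHmap : ∀ x : preimageAlong θ (P' ⊔ H'), (x : Ω) ∈ H → χ x ∈ H := by
        intro x hx
        obtain ⟨hxS, h⟩ := mem_preimageAlong.1 (hH ▸ hx)
        rw [hH]
        refine mem_preimageAlong.2 ⟨hχv x, ?_⟩
        rw [← hχind x]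
        exact hψH.le ⟨_, h, rfl⟩
      have hRval : ∀ x : R, χ (Subgroup.inclusion hRle x) ∈ normalizerIn S H := by
        intro x
        obtain ⟨hxS, h⟩ := mem_preimageAlong.1 x.2
        have h1 : θ ⟨χ (Subgroup.inclusion hRle x), hχv _⟩ = φ' ⟨θ ⟨x, hxS⟩, h⟩ := by
          rw [← hχind (Subgroup.inclusion hRle x)]
          exact hψext ⟨θ ⟨x, hxS⟩, h⟩
        rw [hH]
        exact (hnorm ⟨_, hχv _⟩ H' hH'.1).2 (h1 ▸ hPval _)
      have hRH : R ⊔ H ≤ preimageAlong θ (P' ⊔ H') := sup_le hRle hHle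
      have hmem : restrictHom χ hRle ∈ N.Hom R := by
        rw [hN R]
        refine ⟨restrict_mem hχ hRle, fun x hx => ?_, hRval, restrictHom χ hRH,
          restrict_mem hχ hRH, fun x => rfl, ?_⟩
        · obtain ⟨hxS, h⟩ := mem_preimageAlong.1 hx
          rw [hH]
          exact (hnorm ⟨x, hxS⟩ H' hH'.1).2 (hPN h)
        · haveI := finite_of_le hHS
          refine Subgroup.eq_of_le_of_card_ge ?_ ?_
          · rintro _ ⟨x, hx, rfl⟩
            exact hHmap _ hx
          · rw [Subgroup.card_map_of_injective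
              (F.injective_of_mem (restrict_mem hχ hRH)),
              Nat.card_congr (Subgroup.subgroupOfEquivOfLe (le_sup_right : H ≤ R ⊔ H)).toEquiv]
      rw [hinner R] at hmem
      obtain ⟨-, g, hg, hgx⟩ := hmem
      obtain ⟨hgS, hgN⟩ := hH ▸ hg
      refine ⟨hPN, θ ⟨g, hgS⟩, (hnorm ⟨g, hgS⟩ H' hH'.1).1 ⟨hgS, hgN⟩, fun y => ?_⟩
      obtain ⟨t, ht⟩ : (y : Ω') ∈ θ.range := hrange.symm ▸ normalizerIn_le S' H' (hPN y.2)
      have htR : (t : Ω) ∈ R := mem_preimageAlong.2 ⟨t.2, ht.symm ▸ y.2⟩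
      have h1 : θ ⟨χ (Subgroup.inclusion hRle ⟨t, htR⟩), hχv _⟩ = φ' y := by
        rw [← hχind (Subgroup.inclusion hRle ⟨t, htR⟩)]
        refine (hψext ⟨θ t, ht.symm ▸ y.2⟩).trans ?_
        exact congrArg φ' (Subtype.ext ht)
      rw [← h1, ← ht, ← map_inv, ← map_mul, ← map_mul]
      exact congrArg θ (Subtype.ext (hgx ⟨t, htR⟩))
    · rintro ⟨hP, g, hg, hgx⟩
      exact mem_congr (N'.conj_mem hP hg) hgx

/-- Case: a strongly closed subgroup of order less than `d`, with inner factor system. -/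
theorem inner_of_small [Finite S] [Fact p.Prime] (hS : IsPGroup p S) (hF : F.IsSaturated p)
    {d k : ℕ} (hdk : d = p ^ k) (hd1 : 1 < d) (hdS : d < Nat.card S)
    (he : Embedded F d) (hi : InnerAt F d)
    (hrec : ∀ V : Subgroup Ω, F.StronglyClosed V → V ≠ ⊥ → Nat.card V < d →
      ∀ (P : Subgroup Ω) (φ : P →* Ω), φ ∈ F.Hom P →
        ∃ g ∈ S, ∀ x : P, (g * (x : Ω) * g⁻¹)⁻¹ * φ x ∈ V)
    {W : Subgroup Ω} (hW : F.StronglyClosed W) (hW1 : W ≠ ⊥) (hWd : Nat.card W < d)
    (hmin : ∀ V : Subgroup Ω, F.StronglyClosed V → V ≤ W → V = ⊥ ∨ V = W) (P₀ : Subgroup Ω) :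
    F.Hom P₀ = (innerFusionSystem S).Hom P₀ := by
  have hp := (Fact.out : p.Prime)
  -- the hyperfocal subgroup lies in every small strongly closed subgroup
  have hyp_le : ∀ V : Subgroup Ω, F.StronglyClosed V → V ≠ ⊥ → Nat.card V < d →
      F.hyperfocalSubgroup p ≤ V := by
    intro V hV hV1 hVd
    haveI hVn := normal_subgroupOf_of_stronglyClosed hV
    refine (Subgroup.closure_le _).2 ?_
    rintro _ ⟨P, α, x, hP, hα, rfl⟩
    induction hα using Subgroup.closure_induction generalizing x with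
    | one => simp
    | mul a b _ _ iha ihb =>
      have := V.mul_mem (ihb x) (iha ((b : MulAut P) x))
      simpa [mul_assoc] using this
    | inv a _ iha =>
      have := V.inv_mem (iha (((a⁻¹ : F.autGroup P) : MulAut P) x))
      simpa using this
    | mem a ha =>
      haveI := finite_of_le hP
      obtain ⟨g, hg, hgx⟩ := hrec V hV hV1 hVd P _ ((mem_autGroup_iff hP).1 a.2)
      let q := QuotientGroup.mk' (V.subgroupOf S)
      let gq := q ⟨g, hg⟩
      have hstep : ∀ y : P, q ⟨((a : MulAut P) y : Ω), hP (Subtype.mem _)⟩ =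
          gq * q ⟨y, hP y.2⟩ * gq⁻¹ := by
        intro y
        rw [← map_inv, ← map_mul, ← map_mul]
        refine (QuotientGroup.eq.2 ?_).symm
        show ((g * (y : Ω) * g⁻¹)⁻¹ * ((a : MulAut P) y : Ω)) ∈ V
        exact hgx y
      have hpow : ∀ (n : ℕ) (y : P), q ⟨((((a : MulAut P) ^ n) y : P) : Ω), hP (Subtype.mem _)⟩ =
          gq ^ n * q ⟨y, hP y.2⟩ * (gq ^ n)⁻¹ := by
        intro n
        induction n with
        | zero => intro y; simp
        | succ n ih =>
          intro y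
          have e : ((a : MulAut P) ^ (n + 1)) y = (a : MulAut P) (((a : MulAut P) ^ n) y) := by
            rw [pow_succ', MulAut.mul_apply]
          refine ((congrArg q (Subtype.ext (congrArg (fun r : P => (r : Ω)) e))).trans
            (hstep (((a : MulAut P) ^ n) y))).trans ?_
          rw [ih, pow_succ', mul_inv_rev]
          group
      have h1 : Commute (gq ^ orderOf a) (q ⟨x, hP x.2⟩) := by
        have h := hpow (orderOf a) x
        simp only [← SubgroupClass.coe_pow, pow_orderOf_eq_one, OneMemClass.coe_one,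
          MulAut.one_apply] at h
        exact (mul_inv_eq_iff_eq_mul.1 h.symm)
      have hcop : (orderOf gq).Coprime (orderOf a) := by
        obtain ⟨n, hn⟩ := IsPGroup.iff_orderOf.1 (hS.to_quotient (V.subgroupOf S)) gq
        rw [hn]
        exact (Nat.Coprime.symm ha).pow_left n
      obtain ⟨m, hm⟩ := exists_pow_eq_self_of_coprime hcop.symm
      have h2 : q ⟨((a : MulAut P) x : Ω), hP (Subtype.mem _)⟩ = q ⟨x, hP x.2⟩ := by
        rw [hstep, ← hm, (h1.pow_left m).eq, mul_inv_cancel_right]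
      exact (QuotientGroup.eq.1 h2.symm :)
  by_cases hyp1 : F.hyperfocalSubgroup p = ⊥
  · refine Set.ext fun φ => ⟨fun hφ => ?_, ?_⟩
    · refine mem_le_of_pResidual hS hF (D := innerFusionSystem S) (fun Q hQ α hα => ?_) hφ
      refine ⟨hQ, 1, S.one_mem, fun x => ?_⟩
      have h1 := inv_mul_apply_mem_hyperfocal (F := F) hQ hα x
      rw [hyp1, Subgroup.mem_bot, inv_mul_eq_one] at h1
      simp [h1]
    · rintro ⟨hP, g, hg, hgx⟩
      exact mem_congr (F.conj_mem hP hg) hgx
  have hypW : F.hyperfocalSubgroup p = W :=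
    (hmin _ (stronglyClosed_hyperfocal hS hF) (hyp_le W hW hW1 hWd)).resolve_left hyp1
  haveI hWn := normal_subgroupOf_of_stronglyClosed hW
  obtain ⟨M, hMco, hWM⟩ : ∃ M : Subgroup S, IsCoatom M ∧ ¬ W.subgroupOf S ≤ M := by
    by_contra h
    push Not at h
    refine hyp1 (FusionTate.hyperfocal_eq_bot_of_le_frattini hS hF ?_)
    rw [hypW]
    intro x hx
    rw [Solvable.mem_frattini_iff]
    exact fun M hM => h M hM hx
  haveI := hS.isNilpotent
  haveI hMn : M.Normal :=
    Subgroup.NormalizerCondition.normal_of_coatom M Group.normalizerCondition_of_isNilpotent hMco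
  have hMidx : M.index = p := CfsgLib.Solvable.index_coatom hS hMco
  obtain ⟨M₁, hM₁⟩ : ∃ M₁, M₁ = M.map S.subtype := ⟨_, rfl⟩
  have hM₁S : M₁ ≤ S := hM₁ ▸ Subgroup.map_subtype_le M
  have hM₁n : (M₁.subgroupOf S).Normal := by
    rw [hM₁, Subgroup.subgroupOf, Subgroup.comap_map_eq_self_of_injective S.subtype_injective]
    exact hMn
  have hdM : d ≤ Nat.card M₁ := by
    rw [hM₁, Subgroup.card_map_of_injective S.subtype_injective]
    obtain ⟨j, hj⟩ := IsPGroup.iff_card.1 hS
    have h1 : Nat.card M * p = p ^ j := by rw [← hj, ← hMidx, Subgroup.card_mul_index]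
    have hkj : k < j := (Nat.pow_lt_pow_iff_right hp.one_lt).1 (by rw [← hdk, ← hj]; exact hdS)
    refine Nat.le_of_mul_le_mul_right ?_ hp.pos
    rw [h1, hdk, ← pow_succ]
    exact Nat.pow_le_pow_right hp.pos hkj
  have hM0n := normal_inf hWn hM₁n
  haveI := finite_of_le hW.1
  obtain ⟨H, hMH, hHM, hHn, hHc⟩ := exists_normal_of_card (p := p) hS hM₁S inf_le_right hM0n hM₁n
    (k := k) (hdk ▸ ((Subgroup.card_le_of_le (by exact inf_le_left : W ⊓ M₁ ≤ W)).trans hWd.le))
    (hdk ▸ hdM)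
  have hHS := hHM.trans hM₁S
  have hWnM : ¬ W ≤ M₁ := fun h => hWM fun x hx => by
    obtain ⟨y, hy, hyx⟩ := hM₁ ▸ h hx
    exact Subtype.ext hyx ▸ hy
  by_cases hWp : Nat.card W = p
  · -- `W` is central of order `p`
    exfalso
    haveI := finite_of_le hW.1
    obtain ⟨z, hzW, hz1, -, hzc⟩ := exists_central_mem hS hW.1 hWn hW1
    have hWz : ∀ w ∈ W, ∀ s ∈ S, s * w = w * s := by
      intro w hw s hs
      have : Subgroup.zpowers z = W :=
        (eq_or_eq_bot hWp (Subgroup.zpowers_le.2 hzW)).resolve_left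
          (fun h => hz1 (Subgroup.zpowers_eq_bot.1 h))
      obtain ⟨i, rfl⟩ := Subgroup.mem_zpowers_iff.1 (this.ge hw)
      exact (show Commute s z from hzc s hs).zpow_right i
    obtain ⟨R, a, x, hR, ha, hne⟩ : ∃ (R : Subgroup Ω) (a : F.autGroup R) (x : R),
        R ≤ S ∧ a ∈ pResidual p (F.autGroup R) ∧ (a : MulAut R) x ≠ x := by
      by_contra hno
      push Not at hno
      refine hyp1 (le_bot_iff.1 ((Subgroup.closure_le _).2 ?_))
      rintro _ ⟨P, α, x, hP, hα, rfl⟩
      rw [hno P α x hP hα, inv_mul_cancel]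
      exact Subgroup.one_mem _
    -- an element of order prime to `p` moving `R`
    obtain ⟨a, hacop, x, hne⟩ : ∃ a : F.autGroup R, Nat.Coprime (orderOf a) p ∧
        ∃ x : R, (a : MulAut R) x ≠ x := by
      by_contra hno
      push Not at hno
      suffices hall : ∀ y : R, (a : MulAut R) y = y from hne (hall x)
      clear hne x
      intro x
      induction ha using Subgroup.closure_induction generalizing x with
      | one => simp
      | mul u v _ _ ihu ihv => simp [ihu, ihv]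
      | inv u _ ihu =>
        have := congrArg ((u⁻¹ : F.autGroup R) : MulAut R) (ihu x)
        simpa using this.symm
      | mem u hu => exact hno u hu x
    haveI := finite_of_le hR
    have hlift := isNormal_of_abelian hS hF hW
      ⟨⟨fun u v => Subtype.ext (hWz v v.2 u (hW.1 u.2))⟩⟩
    obtain ⟨χ, hχ, hχR, hχW⟩ := hlift.2 R _ ((mem_autGroup_iff hR).1 a.2)
    have hRW : R ⊔ W ≤ S := sup_le hR hW.1
    have hmod : ∀ y : R, (y : Ω)⁻¹ * ((a : MulAut R) y : Ω) ∈ W := fun y => hypW ▸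
      inv_mul_apply_mem_hyperfocal hR
        (Subgroup.mem_map_of_mem _ (CfsgLib.Transfer.mem_pResidual_of_coprime hacop)) y
    have hχR : ∀ y : R, χ (Subgroup.inclusion le_sup_left y) = (((a : MulAut R) y : R) : Ω) := hχR
    -- the action on `W` is not trivial
    have hWmove : ∃ w : ↥(R ⊔ W), (w : Ω) ∈ W ∧ χ w ≠ w := by
      by_contra hno
      push Not at hno
      refine hne (Subtype.ext ?_)
      obtain ⟨w, hw⟩ : ∃ w, w = (x : Ω)⁻¹ * ((a : MulAut R) x : Ω) := ⟨_, rfl⟩
      have hwW : w ∈ W := hw ▸ hmod x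
      have hit : ∀ n : ℕ, ((((a : MulAut R) ^ n) x : R) : Ω) = x * w ^ n := by
        intro n
        induction n with
        | zero => simp
        | succ n ih =>
          rw [pow_succ', MulAut.mul_apply, ← hχR (((a : MulAut R) ^ n) x)]
          have e : Subgroup.inclusion (le_sup_left : R ≤ R ⊔ W) (((a : MulAut R) ^ n) x) =
              Subgroup.inclusion le_sup_left x *
                ⟨w ^ n, Subgroup.mem_sup_right (pow_mem hwW n)⟩ := Subtype.ext ih
          rw [e, map_mul, hno ⟨w ^ n, Subgroup.mem_sup_right (pow_mem hwW n)⟩ (pow_mem hwW n), hχR x]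
          show ((a : MulAut R) x : Ω) * w ^ n = x * w ^ (n + 1)
          rw [pow_succ', ← mul_assoc, hw, mul_inv_cancel_left]
      have h1 := hit (orderOf a)
      simp only [← SubgroupClass.coe_pow, pow_orderOf_eq_one, OneMemClass.coe_one,
        MulAut.one_apply] at h1
      have hcop : (orderOf w).Coprime (orderOf a) := by
        refine Nat.Coprime.coprime_dvd_left ?_ hacop.symm
        rw [← hWp]
        exact Subgroup.orderOf_dvd_natCard W hwW
      have h2 : w = 1 := orderOf_eq_one_iff.1 (Nat.eq_one_of_dvd_coprimes hcop dvd_rfl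
        (orderOf_dvd_of_pow_eq_one (by simpa using h1.symm)))
      rw [hw, inv_mul_eq_one] at h2
      exact h2.symm
    obtain ⟨w, hwW, hwne⟩ := hWmove
    obtain ⟨e, heI, hev⟩ : ∃ e : W ≃* W, IsIso F e ∧
        ∀ u : W, (e u : Ω) = χ (Subgroup.inclusion le_sup_right u) := by
      refine exists_iso (restrict_mem hχ le_sup_right) ?_
      exact (range_restrictHom χ le_sup_right).trans hχW
    have hcopW : (orderOf (e : MulAut W)).Coprime p := by
      have hdvd : orderOf (e : MulAut W) ∣ p - 1 := by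
        haveI : IsCyclic W := isCyclic_of_prime_card hWp
        have h := orderOf_dvd_natCard (e : MulAut W)
        rwa [IsCyclic.card_mulAut, hWp, Nat.totient_prime hp] at h
      refine (Nat.Coprime.coprime_dvd_left hdvd ?_)
      rw [Nat.coprime_comm, hp.coprime_iff_not_dvd]
      intro h
      have h2 := hp.two_le
      have h3 : p - 1 ≠ 0 := by omega
      have := Nat.le_of_dvd (Nat.pos_of_ne_zero h3) h
      omega
    -- extend to `S`
    have hWfn : F.IsFullyNormalized W := isFullyNormalized_of_normal hW.1 hWn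
    obtain ⟨-, hWr⟩ := automized_receptive hS hF hWfn
    obtain ⟨ψ, hψ, hψW⟩ := exists_extension hWr heI le_rfl
    have hext : S ≤ extender S W (W.subtype.comp e.toMonoidHom) := by
      intro g hg
      refine mem_extender_of_congr ⟨hg, stronglyClosed_le_normalizer hW hg⟩ (α := 1)
        (fun u => by
          show (u : Ω) = g * u * g⁻¹
          rw [hWz u u.2 g hg, mul_inv_cancel_right]) ?_
      rw [map_one]
      exact Subgroup.one_mem _
    obtain ⟨γ₀, hγ₀, hγv⟩ := exists_iso (restrict_mem hψ hext)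
      (eq_S_of_isConj ⟨_, restrict_mem hψ hext, rfl⟩)
    -- a power of order prime to `p`
    let γ : F.autGroup S := ⟨γ₀, (mem_autGroup_iff le_rfl).2 hγ₀⟩
    obtain ⟨n, m, hm, hnm⟩ := Nat.exists_eq_pow_mul_and_not_dvd (orderOf_pos γ).ne' p hp.ne_one
    let β : F.autGroup S := γ ^ p ^ n
    have hβcop : (orderOf β).Coprime p := by
      refine Nat.Coprime.coprime_dvd_left (orderOf_dvd_of_pow_eq_one ?_)
        ((hp.coprime_iff_not_dvd.2 hm).symm)
      show (γ ^ p ^ n) ^ m = 1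
      rw [← pow_mul, ← hnm, pow_orderOf_eq_one]
    have hβW : ∀ (i : ℕ) (u : W),
        ((((γ ^ i : F.autGroup S) : MulAut S) ⟨u, hW.1 u.2⟩ : S) : Ω) = ((e ^ i : MulAut W) u : Ω) := by
      intro i
      induction i with
      | zero => intro u; simp
      | succ i ih =>
        intro u
        have h0 : ((γ ^ i : F.autGroup S) : MulAut S) ⟨u, hW.1 u.2⟩ =
            ⟨((e ^ i : MulAut W) u : Ω), hW.1 (Subtype.mem _)⟩ := Subtype.ext (ih u)
        rw [pow_succ', pow_succ', MulAut.mul_apply, Subgroup.coe_mul, MulAut.mul_apply, h0]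
        show (γ₀ ⟨_, _⟩ : Ω) = _
        rw [hγv]
        exact hψW _ _
    have hβmod : ∀ s : S, (s : Ω)⁻¹ * (((β : MulAut S) s : S) : Ω) ∈ W := fun s => hypW ▸
      inv_mul_apply_mem_hyperfocal le_rfl
        (Subgroup.mem_map_of_mem _ (CfsgLib.Transfer.mem_pResidual_of_coprime hβcop)) s
    obtain ⟨w', hw'⟩ : ∃ w' : W, (e ^ p ^ n : MulAut W) w' ≠ w' := by
      by_contra hno
      push Not at hno
      obtain ⟨i, hi'⟩ := exists_pow_eq_self_of_coprime (x := (e : MulAut W)) (n := p ^ n)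
        (hcopW.symm.pow_left n)
      have he1 : (e ^ p ^ n : MulAut W) = 1 := MulEquiv.ext fun u => hno u
      rw [he1, one_pow] at hi'
      refine hwne ?_
      have h1 := hev ⟨w, hwW⟩
      rw [← hi'] at h1
      exact h1.symm
    -- the fixed points
    let f : S →* S := MonoidHom.mk' (fun s => s⁻¹ * (β : MulAut S) s) fun s t => by
      have hc : t⁻¹ * (s⁻¹ * (β : MulAut S) s) = (s⁻¹ * (β : MulAut S) s) * t⁻¹ :=
        Subtype.ext (hWz _ (hβmod s) _ (S.inv_mem t.2))
      show (s * t)⁻¹ * (β : MulAut S) (s * t) = _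
      rw [map_mul, mul_inv_rev, ← mul_assoc, mul_assoc t⁻¹, hc, mul_assoc]
    haveI := finite_of_le hW.1
    have hfr : f.range = W.subgroupOf S := by
      refine le_antisymm ?_ ?_
      · rintro _ ⟨s, rfl⟩
        exact hβmod s
      · have hc : Nat.card (W.subgroupOf S) = p :=
          (Nat.card_congr (Subgroup.subgroupOfEquivOfLe hW.1).toEquiv).trans hWp
        rcases eq_or_eq_bot hc
          (show f.range ≤ W.subgroupOf S from by rintro _ ⟨s, rfl⟩; exact hβmod s) with h | h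
        · exfalso
          refine hw' ?_
          have h1 : f ⟨w', hW.1 w'.2⟩ ∈ f.range := ⟨_, rfl⟩
          rw [h, Subgroup.mem_bot] at h1
          have h2 : (((β : MulAut S) ⟨w', hW.1 w'.2⟩ : S) : Ω) = w' :=
            congrArg Subtype.val (inv_mul_eq_one.1 h1).symm
          exact Subtype.ext ((hβW (p ^ n) w').symm.trans h2)
        · exact h.ge
    haveI : (f.ker).Normal := inferInstance
    obtain ⟨C, hC⟩ : ∃ C, C = f.ker.map S.subtype := ⟨_, rfl⟩
    have hCn : (C.subgroupOf S).Normal := by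
      rw [hC, Subgroup.subgroupOf, Subgroup.comap_map_eq_self_of_injective S.subtype_injective]
      infer_instance
    have hdC : d ≤ Nat.card C := by
      rw [hC, Subgroup.card_map_of_injective S.subtype_injective]
      obtain ⟨j, hj⟩ := IsPGroup.iff_card.1 hS
      have h1 : Nat.card f.ker * p = p ^ j := by
        rw [← hj, ← Subgroup.card_mul_index f.ker, Subgroup.index_ker, hfr,
          Nat.card_congr (Subgroup.subgroupOfEquivOfLe hW.1).toEquiv, hWp]
      have hkj : k < j := (Nat.pow_lt_pow_iff_right hp.one_lt).1 (by rw [← hdk, ← hj]; exact hdS)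
      refine Nat.le_of_mul_le_mul_right ?_ hp.pos
      rw [h1, hdk, ← pow_succ]
      exact Nat.pow_le_pow_right hp.pos hkj
    obtain ⟨H', -, hH'C, hH'n, hH'c⟩ := exists_normal_of_card (p := p) hS
      (hC ▸ Subgroup.map_subtype_le _ : C ≤ S) bot_le
      (by rw [Subgroup.bot_subgroupOf]; infer_instance) hCn (k := k)
      (by rw [Subgroup.card_bot]; exact Nat.one_le_pow _ _ hp.pos) (hdk ▸ hdC)
    have hH'S : H' ≤ S := hH'C.trans (hC ▸ Subgroup.map_subtype_le _)
    obtain ⟨N, hN⟩ := exists_isNormalizerSystem F hH'S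
    have hn := normalizerIn_eq_of_normal hH'S hH'n
    have hfix : ∀ s : S, (s : Ω) ∈ H' → (β : MulAut S) s = s := by
      intro s hs
      obtain ⟨t, ht, hts⟩ := hC ▸ hH'C hs
      obtain rfl : t = s := Subtype.ext hts
      exact (inv_mul_eq_one.1 (MonoidHom.mem_ker.1 ht)).symm
    have hsup : S ⊔ H' = S := sup_eq_left.2 hH'S
    have hmem : S.subtype.comp (β : MulAut S).toMonoidHom ∈ N.Hom S := by
      rw [hN S]
      have hβI := (mem_autGroup_iff le_rfl).1 β.2
      refine ⟨hβI, hn.ge, fun s => hn.ge (Subtype.mem _), restrictHom _ hsup.le,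
        restrict_mem hβI hsup.le, fun s => rfl, ?_⟩
      ext y
      constructor
      · rintro ⟨s, hs, rfl⟩
        show (((β : MulAut S) _ : S) : Ω) ∈ H'
        rw [hfix _ (Subgroup.mem_subgroupOf.1 hs)]
        exact Subgroup.mem_subgroupOf.1 hs
      · intro hy
        refine ⟨⟨y, Subgroup.mem_sup_right hy⟩, hy, ?_⟩
        show (((β : MulAut S) _ : S) : Ω) = y
        rw [hfix _ hy]
        rfl
    rw [hi H' (isFullyNormalized_of_normal hH'S hH'n) (hH'c.trans hdk.symm) N hN S] at hmem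
    obtain ⟨-, g, hg, hgx⟩ := hmem
    refine hw' (Subtype.ext ?_)
    rw [← hβW (p ^ n) w']
    exact (hgx ⟨w', hW.1 w'.2⟩).trans
      (by rw [hWz w' w'.2 g (normalizerIn_le S H' hg), mul_inv_cancel_right])
  -- `W` has order at least `p²`
  have hM0 : W ⊓ M₁ ≠ ⊥ := by
    intro h
    apply hWp
    haveI := finite_of_le hW.1
    have hinj : Function.Injective ((QuotientGroup.mk' M).comp (Subgroup.inclusion hW.1)) := by
      rw [injective_iff_map_eq_one]
      intro x hx
      have h1 : (x : Ω) ∈ W ⊓ M₁ := ⟨x.2, hM₁ ▸ ⟨_, (QuotientGroup.eq_one_iff _).1 hx, rfl⟩⟩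
      rw [h, Subgroup.mem_bot] at h1
      exact Subtype.ext h1
    have h1 := Nat.card_le_card_of_injective _ hinj
    rw [← Subgroup.index_eq_card, hMidx] at h1
    obtain ⟨i, hi'⟩ := IsPGroup.iff_card.1 (hS.to_le hW.1)
    rw [hi'] at h1 ⊢
    have hi1 : i ≤ 1 := (Nat.pow_le_pow_iff_right hp.one_lt).1 (by rw [pow_one]; exact h1)
    rcases Nat.le_one_iff_eq_zero_or_eq_one.1 hi1 with rfl | rfl
    · exact absurd (Subgroup.card_eq_one.1 (by simpa using hi')) hW1
    · exact pow_one p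
  have hM0W : W ⊓ M₁ ≠ W := fun h => hWnM (inf_eq_left.1 h)
  obtain ⟨P, hP, hHP, hT⟩ := he H hHS (hHc.trans hdk.symm)
  have hWP : W ⊓ P = ⊥ := by
    rcases hmin _ (stronglyClosed_inf hW hP) inf_le_left with h | h
    · exact h
    exfalso
    rcases hmin _ (stronglyClosed_inf hT hW) inf_le_right with h' | h'
    · exact hM0 (le_bot_iff.1 (h' ▸ le_inf (le_inf hMH (inf_le_left.trans (inf_eq_left.1 h)))
        inf_le_left))
    · exact hWnM ((inf_eq_right.1 h').trans (inf_le_left.trans hHM))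
  have hWle : W ≤ H ⊔ P :=
    inf_eq_right.1 ((hmin _ (stronglyClosed_inf hHP hW) inf_le_right).resolve_left fun h =>
      hM0 (le_bot_iff.1 (h ▸ le_inf (hMH.trans le_sup_left) inf_le_left)))
  have hP1 : P ≠ ⊥ := by
    intro h
    rw [h, sup_bot_eq] at hWle
    exact hWnM (hWle.trans hHM)
  obtain ⟨W₂, hW₂, hW₂1, hW₂P, hmin₂⟩ := exists_minimal hP hP1
  have hWW₂ : W ⊓ W₂ = ⊥ := le_bot_iff.1 ((inf_le_inf_left W hW₂P).trans hWP.le)
  have hW₂d : Nat.card W₂ = d := by
    refine le_antisymm (card_le_of_minimal hS hdk hd1 he hW₂ hmin₂) ?_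
    by_contra hlt
    push Not at hlt
    refine hyp1 (le_bot_iff.1 ((le_inf hypW.le (hyp_le W₂ hW₂ hW₂1 hlt)).trans hWW₂.le))
  -- `F` fuses elements of `W₂` as `S` does
  have hfus : ∀ {P : Subgroup Ω} {φ : P →* Ω}, φ ∈ F.Hom P → ∀ x : P, (x : Ω) ∈ W₂ →
      ∃ g ∈ S, φ x = g * x * g⁻¹ := by
    intro P φ hφ x hx
    obtain ⟨g, hg, hgx⟩ := hrec W hW hW1 hWd P φ hφ
    refine ⟨g, hg, ?_⟩
    have h1 : (g * (x : Ω) * g⁻¹)⁻¹ * φ x ∈ W ⊓ W₂ := ⟨hgx x,
      mul_mem (Subgroup.inv_mem _ (conj_mem_of_stronglyClosed hW₂ hg hx))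
        (apply_mem_of_stronglyClosed hW₂ hφ hx)⟩
    rw [hWW₂, Subgroup.mem_bot, inv_mul_eq_one] at h1
    exact h1.symm
  haveI := finite_of_le hW₂.1
  have hW₂n := normal_subgroupOf_of_stronglyClosed hW₂
  obtain ⟨n, hn⟩ := (Subgroup.isNilpotent_iff_lowerCentralSeries W₂).1
    (hS.to_le hW₂.1).isNilpotent
  have hchar : ∀ (i : ℕ) (g u : Ω), g ∈ S → u ∈ W₂.lowerCentralSeries i →
      g * u * g⁻¹ ∈ W₂.lowerCentralSeries i := by
    intro i
    induction i with
    | zero =>
      intro g u hg hu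
      rw [Subgroup.lowerCentralSeries_zero] at hu ⊢
      exact conj_mem_of_stronglyClosed hW₂ hg hu
    | succ i ih =>
      intro g u hg hu
      rw [Subgroup.lowerCentralSeries_succ] at hu ⊢
      have hle : ⁅W₂.lowerCentralSeries i, W₂⁆ ≤
          (⁅W₂.lowerCentralSeries i, W₂⁆).comap (MulAut.conj g).toMonoidHom := by
        rw [Subgroup.commutator_le]
        intro a ha b hb
        rw [Subgroup.mem_comap, map_commutatorElement]
        exact Subgroup.commutator_mem_commutator (ih g a hg ha)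
          (conj_mem_of_stronglyClosed hW₂ hg hb)
      exact hle hu
  have hle2 : ∀ i, W₂.lowerCentralSeries i ≤ W₂ := fun i =>
    (W₂.lowerCentralSeries_antitone (Nat.zero_le i)).trans (Subgroup.lowerCentralSeries_zero W₂).le
  have hnormal : F.IsNormal W₂ := by
    refine isNormal_of_series hS hF n (fun i => W₂.lowerCentralSeries (n - i))
      (by simpa using hn) (by simp) (fun i => W₂.lowerCentralSeries_antitone (by omega))
      (fun i => ⟨(hle2 _).trans hW₂.1, fun R hR φ hφ x => ?_⟩) fun i hi => ?_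
    · obtain ⟨g, hg, hgx⟩ := hfus hφ x (hle2 _ (hR x.2))
      rw [hgx]
      exact hchar _ g _ hg (hR x.2)
    · rw [Subgroup.commutator_comm]
      have e : n - i = n - (i + 1) + 1 := by omega
      rw [e, Subgroup.lowerCentralSeries_succ]
  exact inner_of_isNormal hnormal (hi W₂ (isFullyNormalized_of_normal hW₂.1 hW₂n) hW₂d) P₀

end CfsgLib.FusionWeakEmb
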